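import Mathlib
import Cfsg.Agent.Lib.Lead.Ami.Defs

/-!
# AMI (S4294), package [GAUSS]: `4 N² Φ_l = Y² + l Z²` for a prime `l ≡ 3 (mod 4)`

Averaging route: `P_a = ∏_{b ∈ QR} (X - ψ(a b))` is `F⁺` or `F⁻` according to `χ(a)`;
`∑_a χ(a)² P_a` has integer coefficients, `∑_a χ(a) P_a` is the Gauss sum times an integer
polynomial, and `F⁺ F⁻ = Φ_l`.  `N = (l - 1) / 2`.
-/

set_option autoImplicit false

namespace Cfsg.Agent.Lib.Helper46.Ami

open Polynomial Finset

section gauss

variable (l : ℕ) [Fact l.Prime]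

/-- the quadratic residues -/
noncomputable def QR : Finset (ZMod l) := univ.filter (fun a => quadraticChar (ZMod l) a = 1)

/-- the quadratic non-residues -/
noncomputable def QN : Finset (ZMod l) := univ.filter (fun a => quadraticChar (ZMod l) a = -1)

/-- the standard additive character -/
noncomputable def psi : AddChar (ZMod l) ℂ := ZMod.stdAddChar (N := l)

/-- `P a = ∏_{b ∈ QR} (X - ψ(a b))` -/
noncomputable def PP (a : ZMod l) : ℂ[X] := ∏ b ∈ QR l, (X - C (psi l (a * b)))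

theorem psi_sum (U : Finset (ZMod l)) (f : ZMod l → ZMod l) :
    psi l (∑ b ∈ U, f b) = ∏ b ∈ U, psi l (f b) := by
  classical
  induction U using Finset.induction_on with
  | empty => simp
  | insert b U hb ih =>
    rw [Finset.sum_insert hb, Finset.prod_insert hb, AddChar.map_add_eq_mul, ih]

/-- the integer monomial attached to a subset -/
noncomputable def MZ (U : Finset (ZMod l)) : ℤ[X] :=
  (-1) ^ U.card * X ^ ((QR l).card - U.card)

theorem PP_expand (a : ZMod l) :
    PP l a = ∑ U ∈ (QR l).powerset,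
      C (psi l (a * ∑ b ∈ U, b)) * (MZ l U).map (Int.castRingHom ℂ) := by
  unfold PP
  have h1 : ∀ b ∈ QR l, (X - C (psi l (a * b)) : ℂ[X]) = (-C (psi l (a * b))) + X :=
    fun b _ => by ring
  rw [Finset.prod_congr rfl h1, Finset.prod_add]
  refine Finset.sum_congr rfl fun U hU => ?_
  rw [Finset.mem_powerset] at hU
  rw [Finset.prod_const, Finset.card_sdiff_of_subset hU, Finset.mul_sum, psi_sum, map_prod]
  unfold MZ
  simp only [Polynomial.map_mul, Polynomial.map_pow, Polynomial.map_neg, Polynomial.map_one,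
    Polynomial.map_X]
  rw [Finset.prod_neg]
  ring

/-- the complex-valued quadratic character -/
noncomputable def chiC : MulChar (ZMod l) ℂ :=
  (quadraticChar (ZMod l)).ringHomComp (Int.castRingHom ℂ)

theorem chiC_apply (a : ZMod l) : chiC l a = ((quadraticChar (ZMod l) a : ℤ) : ℂ) := rfl

theorem sum_sq_psi (σ : ZMod l) :
    ∑ a : ZMod l, ((quadraticChar (ZMod l) a : ℤ) : ℂ) ^ 2 * psi l (a * σ) =
      (((if σ = 0 then (l : ℤ) - 1 else -1) : ℤ) : ℂ) := by
  have h : ∀ a : ZMod l, ((quadraticChar (ZMod l) a : ℤ) : ℂ) ^ 2 * psi l (a * σ) =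
      psi l (a * σ) - (if a = 0 then 1 else 0) := by
    intro a
    by_cases ha : a = 0
    · subst ha
      simp
    · have h1 := quadraticChar_sq_one ha
      have h2 : ((quadraticChar (ZMod l) a : ℤ) : ℂ) ^ 2 = 1 := by exact_mod_cast h1
      rw [if_neg ha, sub_zero, h2, one_mul]
  rw [Finset.sum_congr rfl (fun a _ => h a), Finset.sum_sub_distrib]
  unfold psi
  rw [AddChar.sum_mulShift σ (ZMod.isPrimitive_stdAddChar l)]
  simp only [Finset.sum_ite_eq', Finset.mem_univ, if_true, ZMod.card]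
  split_ifs <;> push_cast <;> ring

theorem sum_chi_psi (hl2 : l ≠ 2) (σ : ZMod l) :
    ∑ a : ZMod l, ((quadraticChar (ZMod l) a : ℤ) : ℂ) * psi l (a * σ) =
      ((quadraticChar (ZMod l) σ : ℤ) : ℂ) * gaussSum (chiC l) (psi l) := by
  have hchar : ringChar (ZMod l) ≠ 2 := by
    rw [ZMod.ringChar_zmod_n]
    exact hl2
  by_cases hσ : σ = 0
  · subst hσ
    have h0 := quadraticChar_sum_zero hchar
    have h1 : ∑ a : ZMod l, ((quadraticChar (ZMod l) a : ℤ) : ℂ) = 0 := by
      exact_mod_cast congrArg (Int.cast : ℤ → ℂ) h0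
    simp only [mul_zero, AddChar.map_zero_eq_one, mul_one]
    rw [h1]
    simp
  · have hg := gaussSum_mulShift (chiC l) (psi l) (Units.mk0 σ hσ)
    have h2 : gaussSum (chiC l) ((psi l).mulShift σ) =
        ∑ a : ZMod l, ((quadraticChar (ZMod l) a : ℤ) : ℂ) * psi l (a * σ) := by
      unfold gaussSum
      refine Finset.sum_congr rfl fun a _ => ?_
      rw [AddChar.mulShift_apply, chiC_apply, mul_comm σ a]
    rw [Units.val_mk0, h2, chiC_apply] at hg
    have h3 := quadraticChar_sq_one hσ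
    have h4 : ((quadraticChar (ZMod l) σ : ℤ) : ℂ) ^ 2 = 1 := by exact_mod_cast h3
    rw [← hg, ← mul_assoc, ← pow_two, h4, one_mul]

/-- `Y` -/
noncomputable def YZ : ℤ[X] :=
  ∑ U ∈ (QR l).powerset, C (if ∑ b ∈ U, b = 0 then (l : ℤ) - 1 else -1) * MZ l U

/-- `Z` -/
noncomputable def ZZ : ℤ[X] :=
  ∑ U ∈ (QR l).powerset, C (quadraticChar (ZMod l) (∑ b ∈ U, b)) * MZ l U

theorem S_eq : ∑ a : ZMod l, C (((quadraticChar (ZMod l) a : ℤ) : ℂ) ^ 2) * PP l a =
    (YZ l).map (Int.castRingHom ℂ) := by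
  unfold YZ
  rw [Polynomial.map_sum]
  simp_rw [PP_expand, Finset.mul_sum]
  rw [Finset.sum_comm]
  refine Finset.sum_congr rfl fun U _ => ?_
  rw [Polynomial.map_mul, Polynomial.map_C]
  have h1 : ∀ a ∈ (Finset.univ : Finset (ZMod l)),
      C (((quadraticChar (ZMod l) a : ℤ) : ℂ) ^ 2) *
        (C (psi l (∑ b ∈ U, a * b)) * (MZ l U).map (Int.castRingHom ℂ)) =
      C (((quadraticChar (ZMod l) a : ℤ) : ℂ) ^ 2 * psi l (a * ∑ b ∈ U, b)) *
        (MZ l U).map (Int.castRingHom ℂ) := by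
    intro a _
    rw [C_mul, mul_assoc, Finset.mul_sum]
  rw [Finset.sum_congr rfl h1, ← Finset.sum_mul, ← map_sum, sum_sq_psi]
  rfl

theorem T_eq (hl2 : l ≠ 2) : ∑ a : ZMod l, C ((quadraticChar (ZMod l) a : ℤ) : ℂ) * PP l a =
    C (gaussSum (chiC l) (psi l)) * (ZZ l).map (Int.castRingHom ℂ) := by
  unfold ZZ
  rw [Polynomial.map_sum, Finset.mul_sum]
  simp_rw [PP_expand, Finset.mul_sum]
  rw [Finset.sum_comm]
  refine Finset.sum_congr rfl fun U _ => ?_
  rw [Polynomial.map_mul, Polynomial.map_C]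
  have h1 : ∀ a ∈ (Finset.univ : Finset (ZMod l)),
      C ((quadraticChar (ZMod l) a : ℤ) : ℂ) *
        (C (psi l (∑ b ∈ U, a * b)) * (MZ l U).map (Int.castRingHom ℂ)) =
      C (((quadraticChar (ZMod l) a : ℤ) : ℂ) * psi l (a * ∑ b ∈ U, b)) *
        (MZ l U).map (Int.castRingHom ℂ) := by
    intro a _
    rw [C_mul, mul_assoc, Finset.mul_sum]
  rw [Finset.sum_congr rfl h1, ← Finset.sum_mul, ← map_sum, sum_chi_psi l hl2, C_mul, mul_assoc,
    mul_left_comm]
  rfl

/-- `F⁻` -/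
noncomputable def FM : ℂ[X] := ∏ b ∈ QN l, (X - C (psi l b))

theorem chi_inv_mul (a : ZMod l) (ha : a ≠ 0) :
    quadraticChar (ZMod l) a⁻¹ * quadraticChar (ZMod l) a = 1 := by
  rw [← map_mul, inv_mul_cancel₀ ha, map_one]

theorem chi_ne_zero_of (a : ZMod l) (ha : quadraticChar (ZMod l) a ≠ 0) : a ≠ 0 := by
  intro h
  exact ha (quadraticChar_eq_zero_iff.2 h)

theorem PP_of_one (a : ZMod l) (ha : quadraticChar (ZMod l) a = 1) : PP l a = PP l 1 := by
  have ha0 : a ≠ 0 := chi_ne_zero_of l a (by rw [ha]; norm_num)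
  have hinv : quadraticChar (ZMod l) a⁻¹ = 1 := by
    have h := chi_inv_mul l a ha0
    rw [ha, mul_one] at h
    exact h
  unfold PP
  refine Finset.prod_nbij' (fun b => a * b) (fun b => a⁻¹ * b) ?_ ?_ ?_ ?_ ?_
  · intro b hb
    unfold QR at hb ⊢
    rw [Finset.mem_filter] at hb ⊢
    exact ⟨Finset.mem_univ _, by rw [map_mul, ha, hb.2, one_mul]⟩
  · intro b hb
    unfold QR at hb ⊢
    rw [Finset.mem_filter] at hb ⊢
    exact ⟨Finset.mem_univ _, by rw [map_mul, hinv, hb.2, one_mul]⟩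
  · intro b _
    show a⁻¹ * (a * b) = b
    rw [← mul_assoc, inv_mul_cancel₀ ha0, one_mul]
  · intro b _
    show a * (a⁻¹ * b) = b
    rw [← mul_assoc, mul_inv_cancel₀ ha0, one_mul]
  · intro b _
    show X - C (psi l (a * b)) = X - C (psi l (1 * (a * b)))
    rw [one_mul]

theorem PP_of_neg_one (a : ZMod l) (ha : quadraticChar (ZMod l) a = -1) : PP l a = FM l := by
  have ha0 : a ≠ 0 := chi_ne_zero_of l a (by rw [ha]; norm_num)
  have hinv : quadraticChar (ZMod l) a⁻¹ = -1 := by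
    have h := chi_inv_mul l a ha0
    rw [ha] at h
    linarith
  unfold PP FM
  refine Finset.prod_nbij' (fun b => a * b) (fun b => a⁻¹ * b) ?_ ?_ ?_ ?_ ?_
  · intro b hb
    unfold QR at hb
    unfold QN
    rw [Finset.mem_filter] at hb ⊢
    exact ⟨Finset.mem_univ _, by rw [map_mul, ha, hb.2, mul_one]⟩
  · intro b hb
    unfold QN at hb
    unfold QR
    rw [Finset.mem_filter] at hb ⊢
    exact ⟨Finset.mem_univ _, by rw [map_mul, hinv, hb.2]; norm_num⟩
  · intro b _
    show a⁻¹ * (a * b) = b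
    rw [← mul_assoc, inv_mul_cancel₀ ha0, one_mul]
  · intro b _
    show a * (a⁻¹ * b) = b
    rw [← mul_assoc, mul_inv_cancel₀ ha0, one_mul]
  · intro b _
    rfl

theorem sum_chi_sq : ∑ a : ZMod l, ((quadraticChar (ZMod l) a : ℤ) : ℂ) ^ 2 = (l : ℂ) - 1 := by
  have h := sum_sq_psi l 0
  simp only [mul_zero, AddChar.map_zero_eq_one, mul_one, if_true] at h
  rw [h]
  push_cast
  ring

theorem sum_chi (hl2 : l ≠ 2) : ∑ a : ZMod l, ((quadraticChar (ZMod l) a : ℤ) : ℂ) = 0 := by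
  have h := sum_chi_psi l hl2 0
  simp only [mul_zero, AddChar.map_zero_eq_one, mul_one] at h
  rw [h]
  simp

theorem SpT (hl2 : l ≠ 2) :
    (∑ a : ZMod l, C (((quadraticChar (ZMod l) a : ℤ) : ℂ) ^ 2) * PP l a) +
      (∑ a : ZMod l, C ((quadraticChar (ZMod l) a : ℤ) : ℂ) * PP l a) =
    C ((l : ℂ) - 1) * PP l 1 := by
  rw [← Finset.sum_add_distrib]
  have h : ∀ a ∈ (Finset.univ : Finset (ZMod l)),
      C (((quadraticChar (ZMod l) a : ℤ) : ℂ) ^ 2) * PP l a +
        C ((quadraticChar (ZMod l) a : ℤ) : ℂ) * PP l a =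
      C (((quadraticChar (ZMod l) a : ℤ) : ℂ) ^ 2 + ((quadraticChar (ZMod l) a : ℤ) : ℂ)) *
        PP l 1 := by
    intro a _
    by_cases ha : a = 0
    · subst ha
      simp
    · rcases quadraticChar_dichotomy ha with h1 | h1
      · rw [PP_of_one l a h1, h1]
        simp only [Int.cast_one, one_pow, C_1, one_mul, C_add]
        ring
      · rw [h1]
        simp
  rw [Finset.sum_congr rfl h, ← Finset.sum_mul, ← map_sum, Finset.sum_add_distrib, sum_chi_sq,
    sum_chi l hl2, add_zero]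

theorem SmT (hl2 : l ≠ 2) :
    (∑ a : ZMod l, C (((quadraticChar (ZMod l) a : ℤ) : ℂ) ^ 2) * PP l a) -
      (∑ a : ZMod l, C ((quadraticChar (ZMod l) a : ℤ) : ℂ) * PP l a) =
    C ((l : ℂ) - 1) * FM l := by
  rw [← Finset.sum_sub_distrib]
  have h : ∀ a ∈ (Finset.univ : Finset (ZMod l)),
      C (((quadraticChar (ZMod l) a : ℤ) : ℂ) ^ 2) * PP l a -
        C ((quadraticChar (ZMod l) a : ℤ) : ℂ) * PP l a =
      C (((quadraticChar (ZMod l) a : ℤ) : ℂ) ^ 2 - ((quadraticChar (ZMod l) a : ℤ) : ℂ)) *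
        FM l := by
    intro a _
    by_cases ha : a = 0
    · subst ha
      simp
    · rcases quadraticChar_dichotomy ha with h1 | h1
      · rw [h1]
        simp
      · rw [PP_of_neg_one l a h1, h1]
        simp only [Int.cast_neg, Int.cast_one, C_sub, C_neg, C_1]
        ring
  rw [Finset.sum_congr rfl h, ← Finset.sum_mul, ← map_sum, Finset.sum_sub_distrib, sum_chi_sq,
    sum_chi l hl2, sub_zero]

theorem prod_all : ∏ b : ZMod l, (X - C (psi l b)) = (X : ℂ[X]) ^ l - 1 := by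
  have hl : 0 < l := (Fact.out : l.Prime).pos
  have hinj : Function.Injective (psi l) := ZMod.injective_stdAddChar
  have himg : (Finset.univ : Finset (ZMod l)).image (psi l) = nthRootsFinset l (1 : ℂ) := by
    apply Finset.eq_of_subset_of_card_le
    · intro z hz
      obtain ⟨b, -, rfl⟩ := Finset.mem_image.1 hz
      rw [mem_nthRootsFinset hl, ← AddChar.map_nsmul_eq_pow]
      have h0 : l • b = 0 := by rw [nsmul_eq_mul, ZMod.natCast_self, zero_mul]
      rw [h0, AddChar.map_zero_eq_one]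
    · rw [Finset.card_image_of_injective _ hinj, Finset.card_univ, ZMod.card,
        (Complex.isPrimitiveRoot_exp l hl.ne').card_nthRootsFinset]
  rw [X_pow_sub_one_eq_prod hl (Complex.isPrimitiveRoot_exp l hl.ne'), ← himg,
    Finset.prod_image (fun a _ b _ h => hinj h)]

theorem prod_split (f : ZMod l → ℂ[X]) :
    ∏ b : ZMod l, f b = f 0 * ((∏ b ∈ QR l, f b) * ∏ b ∈ QN l, f b) := by
  rw [← Finset.mul_prod_erase Finset.univ f (Finset.mem_univ 0)]
  congr 1
  rw [← Finset.prod_filter_mul_prod_filter_not (Finset.univ.erase (0 : ZMod l))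
    (fun b => quadraticChar (ZMod l) b = 1)]
  congr 1
  · refine Finset.prod_congr ?_ (fun _ _ => rfl)
    ext b
    simp only [QR, Finset.mem_filter, Finset.mem_erase, Finset.mem_univ, and_true, true_and]
    constructor
    · rintro ⟨-, h⟩
      exact h
    · intro h
      exact ⟨chi_ne_zero_of l b (by rw [h]; norm_num), h⟩
  · refine Finset.prod_congr ?_ (fun _ _ => rfl)
    ext b
    simp only [QN, Finset.mem_filter, Finset.mem_erase, Finset.mem_univ, and_true, true_and]
    constructor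
    · rintro ⟨hb, h⟩
      rcases quadraticChar_dichotomy hb with h1 | h1
      · exact absurd h1 h
      · exact h1
    · intro h
      exact ⟨chi_ne_zero_of l b (by rw [h]; norm_num), by rw [h]; norm_num⟩

theorem FF : PP l 1 * FM l = cyclotomic l ℂ := by
  have h1 := prod_split l (fun b => X - C (psi l b))
  rw [prod_all] at h1
  have h2 : PP l 1 = ∏ b ∈ QR l, (X - C (psi l b)) := by
    unfold PP
    refine Finset.prod_congr rfl fun b _ => ?_
    rw [one_mul]
  have h3 : (X : ℂ[X]) - C (psi l 0) = X - 1 := by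
    rw [AddChar.map_zero_eq_one, C_1]
  have h4 := cyclotomic_prime_mul_X_sub_one ℂ l
  rw [h1, h3, ← h2] at h4
  have h5 : (X : ℂ[X]) - 1 ≠ 0 := by
    have := X_sub_C_ne_zero (1 : ℂ)
    rwa [C_1] at this
  have h6 : (X - 1 : ℂ[X]) * cyclotomic l ℂ = (X - 1) * (PP l 1 * FM l) := by
    rw [mul_comm]
    exact h4
  exact (mul_left_cancel₀ h5 h6).symm

theorem gauss_sq (hl4 : l % 4 = 3) : gaussSum (chiC l) (psi l) ^ 2 = -(l : ℂ) := by
  have hl2 : l ≠ 2 := by
    rintro rfl
    norm_num at hl4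
  have hchar : ringChar (ZMod l) ≠ 2 := by
    rw [ZMod.ringChar_zmod_n]
    exact hl2
  have hne : chiC l ≠ 1 := by
    intro h
    obtain ⟨a, ha⟩ := quadraticChar_exists_neg_one hchar
    have ha0 : a ≠ 0 := chi_ne_zero_of l a (by rw [ha]; norm_num)
    have h1 : chiC l a = 1 := by
      rw [h]
      exact MulChar.one_apply (isUnit_iff_ne_zero.2 ha0)
    rw [chiC_apply, ha] at h1
    norm_num at h1
  have hquad : (chiC l).IsQuadratic := (quadraticChar_isQuadratic (ZMod l)).comp _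
  have h := gaussSum_sq hne hquad (ZMod.isPrimitive_stdAddChar l)
  have hm1 : chiC l (-1) = -1 := by
    rw [chiC_apply, quadraticChar_neg_one hchar, ZMod.card, ZMod.χ₄_nat_three_mod_four hl4]
    norm_num
  unfold psi
  rw [h, hm1, ZMod.card]
  ring

end gauss

/-- [GAUSS] -/
theorem pkgGauss : Cfsg.Agent.Lib.Lead.Ami.PkgGauss := by
  intro l hl hl4
  have : Fact l.Prime := ⟨hl⟩
  have hl2 : l ≠ 2 := by
    rintro rfl
    norm_num at hl4
  obtain ⟨k, hk⟩ : ∃ k : ℕ, l = 2 * k + 1 := ⟨l / 2, by omega⟩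
  have hk0 : k ≠ 0 := by
    rintro rfl
    omega
  refine ⟨k, YZ l, ZZ l, hk0, ?_⟩
  apply Polynomial.map_injective (Int.castRingHom ℂ) Int.cast_injective
  rw [Polynomial.map_mul, Polynomial.map_C, map_cyclotomic, Polynomial.map_add,
    Polynomial.map_pow, Polynomial.map_mul, Polynomial.map_pow, Polynomial.map_C]
  have hS := S_eq l
  have hT := T_eq l hl2
  have h1 := SpT l hl2
  have h2 := SmT l hl2
  have hF := FF l
  have hg := gauss_sq l hl4
  rw [hS, hT] at h1 h2
  have h3 : (Polynomial.map (Int.castRingHom ℂ) (YZ l)) ^ 2 -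
      (C (gaussSum (chiC l) (psi l)) * Polynomial.map (Int.castRingHom ℂ) (ZZ l)) ^ 2 =
      C (((l : ℂ) - 1) ^ 2) * cyclotomic l ℂ := by
    rw [← hF, C_pow]
    calc (Polynomial.map (Int.castRingHom ℂ) (YZ l)) ^ 2 -
        (C (gaussSum (chiC l) (psi l)) * Polynomial.map (Int.castRingHom ℂ) (ZZ l)) ^ 2
        = (Polynomial.map (Int.castRingHom ℂ) (YZ l) +
            C (gaussSum (chiC l) (psi l)) * Polynomial.map (Int.castRingHom ℂ) (ZZ l)) *
          (Polynomial.map (Int.castRingHom ℂ) (YZ l) -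
            C (gaussSum (chiC l) (psi l)) * Polynomial.map (Int.castRingHom ℂ) (ZZ l)) := by ring
      _ = C ((l : ℂ) - 1) ^ 2 * (PP l 1 * FM l) := by
        rw [h1, h2]
        ring
  have h4 : (C (gaussSum (chiC l) (psi l)) * Polynomial.map (Int.castRingHom ℂ) (ZZ l)) ^ 2 =
      -(C (l : ℂ) * (Polynomial.map (Int.castRingHom ℂ) (ZZ l)) ^ 2) := by
    rw [mul_pow, ← C_pow, hg, C_neg]
    ring
  rw [h4] at h3
  have h5 : ((Int.castRingHom ℂ) (4 * (k : ℤ) ^ 2)) = ((l : ℂ) - 1) ^ 2 := by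
    rw [hk, eq_intCast]
    push_cast
    ring
  have h6 : ((Int.castRingHom ℂ) (l : ℤ)) = (l : ℂ) := by
    simp
  rw [h5, h6, ← h3]
  ring

end Cfsg.Agent.Lib.Helper46.Ami
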